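import Groth.Agent.S14439
import Groth.Agent.S4466
import Groth.Agent.Lib.Euler
import Groth.Agent.Lib.ProjShift
import Groth.Agent.KRRReg.KoszulClass
import Groth.Agent.KZ.CohClass
import Groth.Agent.PnCoh.Chow.Proper
import Groth.Agent.CohBasic.PnVan
import Groth.Prelude.Def_KRR

/-!
# `K₀` of coherent sheaves on projective space over a field
-/

set_option autoImplicit false
set_option linter.style.haveILetI false
set_option linter.unusedSectionVars false
set_option backward.isDefEq.respectTransparency false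
set_option backward.isDefEq.respectTransparency.types false
set_option maxHeartbeats 1000000

universe u w

open CategoryTheory CategoryTheory.Limits AlgebraicGeometry TopologicalSpace Opposite
open Groth.Agent.PnCoh.Finite Groth.Agent.ProjRegular Groth.Agent.RegEpi

noncomputable section

namespace Groth.Agent.H6KZ

open Groth.Agent

section Diff

variable {G : Type w} [AddCommGroup G]

theorem fdiff_succ' (a : ℤ → G) : ∀ (k : ℕ) (j : ℤ),
    KRRReg.fdiff (k + 1) a j = KRRReg.fdiff k (fun i => a (i + 1) - a i) j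
  | 0, _ => rfl
  | k + 1, j => by
    show KRRReg.fdiff (k + 1) a (j + 1) - KRRReg.fdiff (k + 1) a j = _
    rw [fdiff_succ' a k, fdiff_succ' a k]
    rfl

/-- A sequence with vanishing differences and zero on a window is zero. -/
theorem eq_zero_of_fdiff : ∀ (k : ℕ) (a : ℤ → G) (m : ℤ), (∀ j, KRRReg.fdiff k a j = 0) →
    (∀ j, m ≤ j → j < m + k → a j = 0) → ∀ j, a j = 0
  | 0, _, _, h, _, j => h j
  | k + 1, a, m, h, hw, j => by
    have hb : ∀ i, a (i + 1) - a i = 0 :=
      eq_zero_of_fdiff k (fun i => a (i + 1) - a i) m (fun i => (fdiff_succ' a k i).symm.trans (h i))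
        fun i hi hi' => by rw [hw i hi (by omega), hw (i + 1) (by omega) (by omega), sub_zero]
    have hm : a m = 0 := hw m le_rfl (by omega)
    induction j using Int.inductionOn' (b := m) with
    | zero => exact hm
    | succ i _ ih => rw [sub_eq_zero.1 (hb i), ih]
    | pred i _ ih =>
      have := sub_eq_zero.1 (hb (i - 1))
      rw [sub_add_cancel, ih] at this
      exact this.symm

end Diff

/-- The splitting off of the last summand. -/
theorem exists_shortExact_finSucc {C : Type*} [Category C] [Abelian C] (M : C) (b : ℕ)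
    [HasCoproduct fun _ : Fin b => M] [HasCoproduct fun _ : Fin (b + 1) => M] :
    ∃ (f : (∐ fun _ : Fin b => M) ⟶ ∐ fun _ : Fin (b + 1) => M) (g : (∐ fun _ : Fin (b + 1) => M) ⟶ M)
      (w : f ≫ g = 0), (ShortComplex.mk f g w).ShortExact := by
  let f : (∐ fun _ : Fin b => M) ⟶ ∐ fun _ : Fin (b + 1) => M :=
    Sigma.desc fun i => Sigma.ι (fun _ : Fin (b + 1) => M) i.castSucc
  let g : (∐ fun _ : Fin (b + 1) => M) ⟶ M :=
    Sigma.desc (Fin.lastCases (motive := fun _ => M ⟶ M) (𝟙 M) fun _ => 0)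
  have w : f ≫ g = 0 := Sigma.hom_ext _ _ fun i => by
    simp [f, g, Fin.lastCases_castSucc]
  exact ⟨f, g, w, (show (ShortComplex.mk f g w).Splitting from
    { r := Sigma.desc (Fin.lastCases (motive := fun _ => M ⟶ ∐ fun _ : Fin b => M) 0
        fun i => Sigma.ι (fun _ : Fin b => M) i)
      s := Sigma.ι (fun _ : Fin (b + 1) => M) (Fin.last b)
      f_r := Sigma.hom_ext _ _ fun i => by simp [f, Fin.lastCases_castSucc]
      s_g := by simp [g, Fin.lastCases_last]
      id := Sigma.hom_ext _ _ fun i => by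
        refine Fin.lastCases ?_ (fun i => ?_) i
        · simp [f, g, Fin.lastCases_last]
        · simp [f, g, Fin.lastCases_castSucc] }).shortExact⟩

variable (k : Type u) [Field k] (n : ℕ)

local notation "PP" => Proj (CohB1.polyGrading n k)
local notation "OP" => Coh.structureModule (Proj (CohB1.polyGrading n k))

/-- The class of `O(d)`. -/
def t (d : ℤ) : KZero.K0sub (fun M : (PP).Modules => Coh.IsCoh M) :=
  KZero.clSub (fun M : (PP).Modules => Coh.IsCoh M) (Twist.twist (CohB1.polyGrading n k) d)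

theorem isNoetherian : IsNoetherian (PP) := Proj16.isNoetherian_proj _

theorem isCoh_sigma (b : ℕ) (e : ℤ) : Coh.IsCoh (∐ fun _ : Fin b => Twist.twist (CohB1.polyGrading n k) e) :=
  isCoh_sigma_twist b e

theorem isCoh_twist (e : ℤ) : Coh.IsCoh (Twist.twist (CohB1.polyGrading n k) e) :=
  SheafHomX.isCoh_of_iso (coproductUniqueIso (fun _ : Fin 1 => Twist.twist (CohB1.polyGrading n k) e))
    (isCoh_sigma k n 1 e)

theorem isCoh_of_isZero {Z : (PP).Modules} (hZ : IsZero Z) : Coh.IsCoh Z :=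
  SheafHomX.isCoh_of_iso ((IsZero.iso hZ ((IsZero.iff_id_eq_zero _).2 (Sigma.hom_ext _ _ fun i => i.elim0))).symm)
    (isCoh_sigma k n 0 0)

theorem good : KRRReg.GoodP (fun M : (PP).Modules => Coh.IsCoh M) where
  zero _ hZ := isCoh_of_isZero k n hZ
  biprod A B hA hB :=
    KZ.isCoh_X₂ (ShortComplex.Splitting.ofHasBinaryBiproduct A B).shortExact hA hB

theorem cl_iso {A B : (PP).Modules} (e : A ≅ B) (hA : Coh.IsCoh A) :
    KZero.clSub (fun M : (PP).Modules => Coh.IsCoh M) A = KZero.clSub (fun M : (PP).Modules => Coh.IsCoh M) B :=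
  KZ.clSub_iso _ e hA (SheafHomX.isCoh_of_iso e hA) (isZero_zero _) (isCoh_of_isZero k n (isZero_zero _))

theorem cl_sigma : ∀ (b : ℕ) (e : ℤ), KZero.clSub (fun M : (PP).Modules => Coh.IsCoh M)
    (∐ fun _ : Fin b => Twist.twist (CohB1.polyGrading n k) e) = (b : ℤ) • t k n e := by
  intro b
  induction b with
  | zero =>
    intro e
    rw [Nat.cast_zero, zero_smul]
    exact KZ.clSub_isZero _ ((IsZero.iff_id_eq_zero _).2 (Sigma.hom_ext _ _ fun i => i.elim0))
  | succ b ih =>
    intro e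
    obtain ⟨f, g, w, hS⟩ := exists_shortExact_finSucc (Twist.twist (CohB1.polyGrading n k) e) b
    have h := KZ.clSub_ses (fun M : (PP).Modules => Coh.IsCoh M) hS
      (isCoh_sigma k n b e) (isCoh_sigma k n (b + 1) e) (isCoh_twist k n e)
    rw [Nat.cast_succ, add_zsmul, one_zsmul, ← ih e]
    exact h

/-- The Koszul relation. -/
theorem fdiff_t (j : ℤ) : KRRReg.fdiff (n + 1) (t k n) j = 0 := by
  classical
  let l := (Finset.univ : Finset (ULift.{u} (Fin (n + 1)))).toList
  let x := fun (i : ULift.{u} (Fin (n + 1))) (d : ℤ) => ProjShift.xHom (coords_mem (k := k) (n := n) i) d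
  have hg : KRRReg.GoodP (fun M : (PP).Modules => Coh.IsCoh M) := good k n
  have hcov : ∀ y : (PP), ∃ i ∈ l, ∀ d, Function.Bijective ((KFlatLib.stalkAb y).map (x i d)) := fun y => by
    obtain ⟨i, hi⟩ := Opens.mem_iSup.1 ((coords_cover (k := k) (n := n)).ge (trivial : y ∈ (⊤ : (PP).Opens)))
    refine ⟨i, Finset.mem_toList.2 (Finset.mem_univ i), fun d => ?_⟩
    haveI : IsIso ((KFlatLib.stalkP y).map (DCoh.toP.map (x i d))) :=
      (ConcreteCategory.isIso_iff_bijective _).2 (ProjShift.bijective_stalk (coords_mem i) hi d)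
    haveI : IsIso ((DerSch.stalkFunctor (PP) y).map (x i d)) :=
      (NatIso.isIso_map_iff (KFlatLib.stalkToPIso y) _).2 this
    exact (ConcreteCategory.isIso_iff_bijective _).1
      (Functor.map_isIso (forget₂ (ModuleCat ((PP).presheaf.stalk y)) AddCommGrpCat)
        ((DerSch.stalkFunctor (PP) y).map (x i d)))
  let M := fun d : ℤ => Twist.twist (CohB1.polyGrading n k) d
  haveI := isNoetherian k n
  have hobj : ∀ d p, Coh.IsCoh (KoszulChop.obj M l d p) := fun d p => hg.obj M l d p fun _ => isCoh_twist k n _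
  have h := hg.fdiff_eq_zero M x (fun i i' d => ProjShift.xHom_comm (coords_mem i) (coords_mem i') d) l hcov
    (j + (n + 1 : ℕ)) (fun p _ => isCoh_twist k n _) fun p => QCoh.isCoh_kernel (hobj _ _) (hobj _ _) _
  rw [show l.length = n + 1 by simp [l], add_sub_cancel_right] at h
  exact h

/-- The classes of the standard twists. -/
def comb : (Fin (n + 1) → ℤ) →+ KZero.K0sub (fun M : (PP).Modules => Coh.IsCoh M) :=
  AddMonoidHom.mk' (fun a => ∑ i : Fin (n + 1), a i • t k n (-((i : ℕ) : ℤ))) fun a b => by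
    rw [← Finset.sum_add_distrib]
    exact Finset.sum_congr rfl fun i _ => add_zsmul _ _ _

theorem t_mem (d : ℤ) : t k n d ∈ (comb k n).range := by
  rw [← QuotientAddGroup.eq_zero_iff]
  refine eq_zero_of_fdiff (n + 1) (fun d => QuotientAddGroup.mk' (comb k n).range (t k n d)) (-(n : ℤ))
    (fun j => by rw [← KRRReg.fdiff_map, fdiff_t, map_zero]) (fun j hj hj' => ?_) d
  refine (QuotientAddGroup.eq_zero_iff _).2 ?_
  refine ⟨Pi.single (⟨(-j).toNat, by omega⟩ : Fin (n + 1)) 1, ?_⟩
  show ∑ i : Fin (n + 1), _ • t k n (-((i : ℕ) : ℤ)) = _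
  rw [Finset.sum_eq_single (⟨(-j).toNat, by omega⟩ : Fin (n + 1))]
  · rw [Pi.single_eq_same, one_smul]
    exact congrArg (t k n) (show -(((-j).toNat : ℕ) : ℤ) = j by omega)
  · intro i _ hi
    rw [Pi.single_eq_of_ne hi, zero_smul]
  · simp

theorem sigma_mem : ∀ (b : ℕ) (e : ℤ), KZero.clSub (fun M : (PP).Modules => Coh.IsCoh M)
    (∐ fun _ : Fin b => Twist.twist (CohB1.polyGrading n k) e) ∈ (comb k n).range := by
  intro b e
  rw [cl_sigma k n b e]
  exact zsmul_mem (t_mem k n e) _

theorem twF_mem : ∀ (m s : ℕ) (T : Syzygy.St k n s), n + 1 ≤ s + m → ∀ d : ℤ,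
    KZero.clSub (fun M : (PP).Modules => Coh.IsCoh M) ((twF d).obj T.G) ∈ (comb k n).range := by
  intro m
  induction m with
  | zero =>
    intro s T hs d
    obtain ⟨T', ι, ψ, w, hex⟩ := Syzygy.exists_step (S14439.hyp k n) T
    haveI := hex.epi_g
    haveI : Epi ψ := hex.epi_g
    have h0 := Syzygy.isZero_St (S14439.hyp k n) T hs
    have hz : IsZero T.G := by
      refine IsZero.of_epi_eq_zero ψ (Sigma.hom_ext _ _ fun i => ?_)
      exact Fin.elim0 (h0 ▸ i)
    rw [KZ.clSub_isZero _ ((twF d).map_isZero hz)]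
    exact zero_mem _
  | succ m ih =>
    intro s T hs d
    obtain ⟨T', ι, ψ, w, hex⟩ := Syzygy.exists_step (S14439.hyp k n) T
    have hX := RegDescent.twSeq_exact (coords k n) coords_mem coords_cover hex d
    have c₁ : Coh.IsCoh ((twF d).obj ((twF (-1)).obj T'.G)) :=
      ProjRegular.isCoh_twistBy (ProjRegular.isCoh_twistBy T'.coh (-1)) d
    have c₂ : Coh.IsCoh ((twF d).obj (∐ fun _ : Fin (Module.finrank k (Coh.HH (PP) T.G 0)) => OP)) :=
      ProjRegular.isCoh_twistBy (Syzygy.isCoh_sigma_O _) d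
    have h := KZ.clSub_ses (fun M : (PP).Modules => Coh.IsCoh M) hX c₁ c₂ (ProjRegular.isCoh_twistBy T.coh d)
    obtain ⟨e₁⟩ := twF_twF_iso T'.G (-1) d (d - 1) (by ring)
    obtain ⟨e₂⟩ := twF_sigma_unit_iso (k := k) (n := n) (Module.finrank k (Coh.HH (PP) T.G 0)) d
    have h' : KZero.clSub (fun M : (PP).Modules => Coh.IsCoh M) ((twF d).obj T.G) =
        KZero.clSub (fun M : (PP).Modules => Coh.IsCoh M)
          ((twF d).obj (∐ fun _ : Fin (Module.finrank k (Coh.HH (PP) T.G 0)) => OP)) -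
        KZero.clSub (fun M : (PP).Modules => Coh.IsCoh M) ((twF d).obj ((twF (-1)).obj T'.G)) :=
      eq_sub_of_add_eq' h.symm
    rw [h', cl_iso k n e₁ c₁, cl_iso k n e₂ c₂]
    exact sub_mem (sigma_mem k n _ _) (ih (s + 1) T' (by omega) (d - 1))

theorem mem_range {F : (PP).Modules} (hF : Coh.IsCoh F) :
    KZero.clSub (fun M : (PP).Modules => Coh.IsCoh M) F ∈ (comb k n).range := by
  obtain ⟨m, hm⟩ := S14439.exists_regular k n F hF
  let T : Syzygy.St k n 0 :=
    { G := (twF m).obj F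
      coh := ProjRegular.isCoh_twistBy hF m
      reg := fun i hi => by
        obtain ⟨e⟩ := twF_twF_iso F m (-(i : ℤ)) (m - (i : ℤ)) (by ring)
        exact QCoh.subsingleton_HH_of_iso e.symm i (hm i hi)
      low := fun q hq => absurd hq (Nat.not_lt_zero q) }
  have h := twF_mem k n (n + 1) 0 T (by omega) (-m)
  obtain ⟨e₁⟩ := twF_twF_iso F m (-m) 0 (by ring)
  obtain ⟨e₂⟩ := twF_zero_iso (k := k) (n := n) F
  rwa [cl_iso k n (e₁ ≪≫ e₂) (ProjRegular.isCoh_twistBy (ProjRegular.isCoh_twistBy hF m) (-m))] at h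

theorem surjective_comb : Function.Surjective (comb k n) := fun z => by
  have h : (QuotientAddGroup.mk' (comb k n).range) = 0 :=
    KZ.K0sub_hom_ext _ (f := QuotientAddGroup.mk' (comb k n).range) (g := 0) fun F hF =>
      (QuotientAddGroup.eq_zero_iff _).2 (mem_range k n hF)
  exact (QuotientAddGroup.eq_zero_iff z).1 (DFunLike.congr_fun h z)

theorem euler_twist_eq (d : ℤ) (hd : 0 < n ∨ d = 0) :
    Curv2.euler k (CohB1.ProjSpace n k) (Twist.twistProjSpace n k d) = Ring.choose (d + n) n := by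
  have hz : ∀ i, n < i → Subsingleton (Coh.HH (CohB1.ProjSpace n k) (Twist.twistProjSpace n k d) i) := fun i hi =>
    CohBasic.subsingleton_HH_projSpace_gt n k (isCoh_twist k n d).1 i hi
  have hsupp : (Function.support fun i : ℕ => (-1 : ℤ) ^ i *
      (Module.finrank k (Coh.HH (CohB1.ProjSpace n k) (Twist.twistProjSpace n k d) i) : ℤ)) ⊆
      ↑(Finset.range (n + 1)) := fun i hi => by
    by_contra h
    haveI := hz i (by simpa using h)
    apply hi
    show _ * _ = _
    rw [Module.finrank_zero_of_subsingleton, Nat.cast_zero, mul_zero]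
  rw [Curv2.euler, finsum_eq_sum_of_support_subset _ hsupp]
  rcases Nat.eq_zero_or_pos n with rfl | hn
  · obtain rfl : d = 0 := hd.resolve_left (lt_irrefl 0)
    rw [Finset.sum_range_one, pow_zero, one_mul, Ring.choose_zero_right]
    obtain ⟨φ⟩ := RegEpi.unitIso (k := k) (n := 0)
    have h := (S14439.hyp k 0).one
    rw [(RegDescent.HHequiv (k := k) φ 0).finrank_eq] at h
    exact_mod_cast h
  · exact S4466.result k n hn d

theorem euler_twF_add (d : ℤ) (S : ShortComplex (PP).Modules) (hS : S.ShortExact) (h₁ : Coh.IsCoh S.X₁)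
    (h₂ : Coh.IsCoh S.X₂) (h₃ : Coh.IsCoh S.X₃) :
    Curv2.euler k (CohB1.ProjSpace n k) ((twF d).obj S.X₂) =
      Curv2.euler k (CohB1.ProjSpace n k) ((twF d).obj S.X₁) +
        Curv2.euler k (CohB1.ProjSpace n k) ((twF d).obj S.X₃) := by
  haveI : IsProper ((CohB1.ProjSpace n k) ↘ Spec (CommRingCat.of k)) := PnCoh.Chow.isProper_toSpec n k
  have hT : (RegDescent.twSeq S d).ShortExact := RegDescent.twSeq_exact (coords k n) coords_mem coords_cover hS d
  have c₁ : Coh.IsCoh (RegDescent.twSeq S d).X₁ := ProjRegular.isCoh_twistBy h₁ d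
  have c₂ : Coh.IsCoh (RegDescent.twSeq S d).X₂ := ProjRegular.isCoh_twistBy h₂ d
  have c₃ : Coh.IsCoh (RegDescent.twSeq S d).X₃ := ProjRegular.isCoh_twistBy h₃ d
  exact @Euler.euler_add (CohB1.ProjSpace n k) k _ _ (RegDescent.twSeq S d) _ hT c₁ c₂ c₃

theorem injective_comb : Function.Injective (comb k n) := by
  haveI : IsProper ((CohB1.ProjSpace n k) ↘ Spec (CommRingCat.of k)) := PnCoh.Chow.isProper_toSpec n k
  haveI := isNoetherian k n
  have hΦ : ∀ j : ℕ, ∃ Φ : KZero.K0sub (fun M : (PP).Modules => Coh.IsCoh M) →+ ℤ, ∀ F, Coh.IsCoh F →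
      Φ (KZero.clSub (fun M : (PP).Modules => Coh.IsCoh M) F) = Curv2.euler k (CohB1.ProjSpace n k) ((twF (j : ℤ)).obj F) :=
    fun j => KZ.exists_liftSub _ (fun F => Curv2.euler k (CohB1.ProjSpace n k) ((twF (j : ℤ)).obj F)) (euler_twF_add k n (j : ℤ))
  choose Φ hΦ using hΦ
  have hval : ∀ (j : ℕ) (i : ℕ), j ≤ n → i ≤ n → Φ j (t k n (-(i : ℤ))) = Ring.choose ((j : ℤ) - i + n) n := fun j i hj hi => by
    rw [t, hΦ j _ (isCoh_twist k n _)]
    obtain ⟨φ⟩ := PnCoh.Finite.twist_tensor_iso (coords k n) coords_mem coords_cover (-(i : ℤ)) (j : ℤ)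
    rw [← euler_twist_eq k n ((j : ℤ) - i) (by omega)]
    exact Euler.euler_congr k (φ ≪≫ eqToIso (by rw [show -(i : ℤ) + j = (j : ℤ) - i by ring]; rfl))
  refine (injective_iff_map_eq_zero _).2 fun a ha => funext fun i => ?_
  have hsum : ∀ j : ℕ, j ≤ n → ∑ i : Fin (n + 1), a i * Ring.choose ((j : ℤ) - (i : ℕ) + n) n = 0 := fun j hj => by
    have h := congrArg (Φ j) ha
    rw [map_zero] at h
    refine Eq.trans ?_ h
    show _ = Φ j (∑ i : Fin (n + 1), a i • t k n (-((i : ℕ) : ℤ)))
    rw [map_sum]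
    exact Finset.sum_congr rfl fun i _ => by rw [map_zsmul, hval j i hj (Nat.lt_succ_iff.1 i.isLt), smul_eq_mul]
  obtain ⟨m, hm⟩ : ∃ m, (i : ℕ) = m := ⟨_, rfl⟩
  induction m using Nat.strong_induction_on generalizing i with
  | _ m ih =>
    have h := hsum m (by omega)
    rw [Finset.sum_eq_single i] at h
    · rwa [show (m : ℤ) - (i : ℕ) + n = (n : ℤ) by omega, Ring.choose_natCast, Nat.choose_self, Nat.cast_one,
        mul_one] at h
    · intro l _ hl
      have hne : (l : ℕ) ≠ m := fun e => hl (Fin.ext (e.trans hm.symm))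
      rcases Nat.lt_or_ge (l : ℕ) m with hlt | hge
      · rw [show a l = 0 from ih _ hlt l rfl, zero_mul]
      · have := l.isLt
        obtain ⟨c, hc⟩ : ∃ c : ℕ, (m : ℤ) - (l : ℕ) + n = (c : ℤ) := ⟨((m : ℤ) - (l : ℕ) + n).toNat, by omega⟩
        rw [hc, Ring.choose_natCast, Nat.choose_eq_zero_of_lt (by omega), Nat.cast_zero, mul_zero]
    · simp

theorem bijective_comb : Function.Bijective (comb k n) := ⟨injective_comb k n, surjective_comb k n⟩

end Groth.Agent.H6KZ
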